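import Cfsg.Agent.H714.Fi22.CellB

/-!
# `Fi22` has rational irreducible characters of degrees 1001, 10725 (helper714)
-/

set_option autoImplicit false
set_option maxRecDepth 100000

namespace Cfsg.Agent.H714.Fi22.Deg

open Cfsg Cfsg.Spor Cfsg.Agent.Lib.PermNet Cfsg.Agent.Lib.PermNetOrbit Cfsg.Agent.H714.Fi22.Rep
open Cfsg.Agent.H714.Fi22.Stab Cfsg.Agent.H956.K4.RatDeg

/-- the degree 1001 -/
theorem deg_1001 : ∃ χ : IrrCharacter Fi22, charDegree (χ : Fi22 → ℂ) = 1001 ∧ Rt (χ : Fi22 → ℂ) := by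
  have := finite_fi22
  exact dat.deg 2 B2 (fun i j => cell_of (c2 i j)) kk hk ![1, -1, -1 / 7, 1 / 7, 1 / 28, -1 / 28, 0]
    (t := (-225)) (d := 1001)
    (L := ![![0, 0, 0, 0, 0, 0, 0],
      ![19379 / 4276800, 2147 / 475200, -371 / 19008, -35 / 2112, 28 / 2673, 0, 7 / 396],
      ![1 / 1575, 0, 0, 0, 0, 0, 0],
      ![-19379 / 29937600, -1 / 95040, 53 / 19008, 5 / 2112, -4 / 2673, 0, -1 / 396],
      ![-8651 / 53222400, 1 / 844800, 29 / 33792, -3 / 11264, 7 / 2376, 0, -1 / 352],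
      ![79847 / 479001600, -37 / 7603200, -545 / 304128, 37 / 33792, 71 / 21384, 0, -7 / 3168],
      ![-7 / 8553600, 1 / 950400, 7 / 38016, -1 / 4224, -4 / 2673, 0, 5 / 2376]])
    (by decide +kernel) (by decide +kernel) (by decide +kernel) (by decide +kernel)

/-- the degree 10725 -/
theorem deg_10725 : ∃ χ : IrrCharacter Fi22, charDegree (χ : Fi22 → ℂ) = 10725 ∧ Rt (χ : Fi22 → ℂ) := by
  have := finite_fi22
  exact dat.deg 2 B2 (fun i j => cell_of (c2 i j)) kk hk ![1, -1, 1 / 25, -1 / 25, 1 / 100, -1 / 100, 0]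
    (t := 63) (d := 10725)
    (L := ![![0, 0, 0, 0, 0, 0, 0],
      ![-4259 / 326592, -451 / 36288, 925 / 5184, 125 / 576, -100 / 729, 0, -25 / 108],
      ![1 / 1575, 0, 0, 0, 0, 0, 0],
      ![-4259 / 8164800, 5 / 36288, 37 / 5184, 5 / 576, -4 / 729, 0, -1 / 108],
      ![2029 / 14515200, -1 / 64512, -11 / 9216, -1 / 1024, -5 / 648, 0, 1 / 96],
      ![-23561 / 130636800, 29 / 580608, -113 / 82944, 29 / 9216, -53 / 5832, 0, 7 / 864],
      ![1 / 93312, -1 / 72576, 7 / 10368, -1 / 1152, 4 / 729, 0, -1 / 216]])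
    (by decide +kernel) (by decide +kernel) (by decide +kernel) (by decide +kernel)

end Cfsg.Agent.H714.Fi22.Deg
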