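import Cfsg.Agent.H714.Fi22.Deg
import Cfsg.Agent.H729.FiTTRank
import Cfsg.Agent.H740.K4.Four
import Cfsg.Agent.H714.K4.Defs

/-!
# `Fi22`: five good characters (helper714, for S4947, S4925, S4547)

* `deg_1001`, `deg_10725` : rational irreducible characters (signed permutation action on 61776 points);
* `deg_429` : the rational irreducible character of degree 429 (rank 3 action on 14080 points);
* `exists_three` : good characters of degrees 429, 1001, 10725;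
* `good5_fi22`, `odd5_fi22`, `rowA_fi22`.
-/

set_option autoImplicit false
set_option maxRecDepth 100000

open Cfsg Cfsg.Spor Cfsg.Agent.Characters.Core Cfsg.Agent.Characters.GaloisBasic

universe u

namespace Cfsg.Agent.H714.Fi22.Row

open Cfsg.Agent.H956.K4.RatDeg

section rat

variable {G : Type*} [Group G] [Finite G]

theorem rat_of_rt {χ : G → ℂ} (hχ : IsCharacter G χ) (h : Rt χ) (g : G) : ∃ q : ℚ, χ g = q := by
  rw [exists_rat_iff hχ]
  intro m hm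
  obtain ⟨σ, hσ⟩ := exists_ringEquiv_of_coprime (G := G) hm
  rw [← hσ χ hχ g, h σ g]

/-- The first of two irreducible characters of different degrees with a rational sum is rational. -/
theorem rt_of_two {χ₁ χ₂ : IrrCharacter G} (hne : (χ₁ : G → ℂ) 1 ≠ (χ₂ : G → ℂ) 1)
    (hsum : ∀ (σ : ℂ ≃+* ℂ) (x : G), σ ((χ₁ : G → ℂ) x + (χ₂ : G → ℂ) x) = (χ₁ : G → ℂ) x + (χ₂ : G → ℂ) x) :
    Rt (χ₁ : G → ℂ) := by
  classical
  have := Fintype.ofFinite G
  intro σ g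
  have h1 := Cfsg.Agent.Characters.GaloisIrr.isIrr_map σ χ₁.2
  have h2 := Cfsg.Agent.Characters.GaloisIrr.isIrr_map σ χ₂.2
  have hdeg : ∀ χ : IrrCharacter G, σ ((χ : G → ℂ) 1) = (χ : G → ℂ) 1 := by
    intro χ
    obtain ⟨n, -, hn⟩ := isIrr_apply_one χ.2
    rw [hn, map_natCast]
  have hne' : (χ₂ : G → ℂ) ≠ (χ₁ : G → ℂ) := fun h => hne (by rw [h])
  have hne2 : (fun g => σ ((χ₂ : G → ℂ) g)) ≠ (χ₁ : G → ℂ) := by
    intro h
    apply hne
    rw [← congrFun h 1]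
    exact hdeg χ₂
  have e1 : classInner ((χ₁ : G → ℂ) + (χ₂ : G → ℂ)) (χ₁ : G → ℂ) = 1 := by
    rw [classInner_add_left, classInner_irr_self χ₁.2, classInner_irr_ne χ₂.2 χ₁.2 hne', add_zero]
  have e2 : ((χ₁ : G → ℂ) + (χ₂ : G → ℂ)) = (fun g => σ ((χ₁ : G → ℂ) g)) + fun g => σ ((χ₂ : G → ℂ) g) := by
    funext x
    rw [Pi.add_apply, Pi.add_apply, ← map_add, hsum]
  by_contra hcon
  have hne1 : (fun g => σ ((χ₁ : G → ℂ) g)) ≠ (χ₁ : G → ℂ) := fun h => hcon (congrFun h g)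
  rw [e2, classInner_add_left, classInner_irr_ne h1 χ₁.2 hne1, classInner_irr_ne h2 χ₁.2 hne2, add_zero] at e1
  exact zero_ne_one e1

end rat

open Cfsg.Agent.H714.Fi22.Deg Cfsg.Agent.H714.Fi22.Stab

/-- the degree 429 -/
theorem deg_429 : ∃ χ : IrrCharacter Fi22, charDegree (χ : Fi22 → ℂ) = 429 ∧ Rt (χ : Fi22 → ℂ) := by
  have := finite_fi22
  obtain ⟨χ₁, χ₂, h1, h2, h3⟩ := H729.FiTTRank.exists_irr
  refine ⟨χ₁, Cfsg.Agent.Blocks.Basic.charDegree_of_eq (by rw [h1]; norm_num), rt_of_two (χ₂ := χ₂) ?_ ?_⟩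
  · rw [h1, h2]; norm_num
  · intro σ x
    have h4 : (χ₁ : Fi22 → ℂ) x + (χ₂ : Fi22 → ℂ) x =
        (Nat.card (MulAction.fixedBy (Fi22 ⧸ Cfsg.Agent.Fischer.Fi22Sub.H) x) : ℂ) - 1 := by
      rw [h3 x]; ring
    rw [h4, map_sub, map_natCast, map_one]

theorem transfer {S K : Type*} [Group S] [Group K] (f : S ≃* K) {d : ℕ}
    (h : ∃ χ : IrrCharacter K, charDegree (χ : K → ℂ) = d ∧ Rt (χ : K → ℂ)) :
    ∃ χ : IrrCharacter S, charDegree (χ : S → ℂ) = d ∧ Rt (χ : S → ℂ) := by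
  obtain ⟨χ, h1, h2⟩ := h
  refine ⟨⟨fun s => (χ : K → ℂ) (f s), isIrr_comp f.toMonoidHom f.surjective χ.2⟩, ?_, fun σ g => h2 σ (f g)⟩
  rw [← h1]
  show ⌊((χ : K → ℂ) (f 1)).re⌋₊ = ⌊((χ : K → ℂ) 1).re⌋₊
  rw [map_one]

theorem good_of {S : Type u} [Group S] [Finite S] {d : ℕ} (hd : Odd d)
    (h : ∃ χ : IrrCharacter S, charDegree (χ : S → ℂ) = d ∧ Rt (χ : S → ℂ)) :
    ∃ χ : S → ℂ, H601.K4.Good χ ∧ charDegree χ = d ∧ Rt χ := by
  obtain ⟨χ, h1, h2⟩ := h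
  exact ⟨χ, H740.K4.good_of_rat χ.2 (rat_of_rt (isIrr_isCharacter χ.2) h2) (by rw [h1]; exact hd), h1, h2⟩

theorem card_of {S : Type u} [Group S] (h : IsoFi22 S) : Nat.card S = 64561751654400 := NotCT.Orders.fi22 h

/-- **Good characters of degrees 429, 1001, 10725.** -/
theorem exists_three {S : Type u} [Group S] (h : IsoFi22 S) :
    (∃ χ : S → ℂ, H601.K4.Good χ ∧ charDegree χ = 429 ∧ Rt χ) ∧
      (∃ χ : S → ℂ, H601.K4.Good χ ∧ charDegree χ = 1001 ∧ Rt χ) ∧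
      ∃ χ : S → ℂ, H601.K4.Good χ ∧ charDegree χ = 10725 ∧ Rt χ := by
  have : Finite S := Nat.finite_of_card_ne_zero (by rw [card_of h]; norm_num)
  obtain ⟨e⟩ := h
  exact ⟨good_of (by decide) (transfer e deg_429), good_of (by decide) (transfer e deg_1001),
    good_of (by decide) (transfer e deg_10725)⟩

/-- **Five good characters of `Fi22`.** -/
theorem good5_fi22 {S : Type u} [Group S] (h : IsoFi22 S) : H601.K4.Good5 S := by
  have hc := card_of h
  have hfin : Finite S := Nat.finite_of_card_ne_zero (by rw [hc]; norm_num)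
  obtain ⟨e⟩ := h
  obtain ⟨χ₁, h1, h1'⟩ := transfer e deg_429
  obtain ⟨χ₂, h2, h2'⟩ := transfer e deg_1001
  obtain ⟨χ₃, h3, h3'⟩ := transfer e deg_10725
  have hd : ∀ (χ : IrrCharacter S) {d : ℕ}, charDegree (χ : S → ℂ) = d → (χ : S → ℂ) 1 = d := fun χ d hd => by
    rw [Cfsg.Agent.Blocks.Basic.irr_one_eq_charDegree χ.2, hd]
  refine H740.K4.good5_of_defect_zero (p := 13) (n := 1) (d := ![429, 1001, 10725])
    (χ := ![(χ₁ : S → ℂ), (χ₂ : S → ℂ), (χ₃ : S → ℂ)]) (by rw [hc]; decide) (by norm_num) (by decide) (by norm_num)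
    (by rw [hc]; norm_num) (by rw [hc]; norm_num) ?_ ?_ ?_ ?_ ?_ ?_ ?_
  · intro i
    fin_cases i
    exacts [χ₁.2, χ₂.2, χ₃.2]
  · intro i
    fin_cases i
    exacts [hd _ h1, hd _ h2, hd _ h3]
  · intro i
    fin_cases i
    exacts [rat_of_rt (isIrr_isCharacter χ₁.2) h1', rat_of_rt (isIrr_isCharacter χ₂.2) h2',
      rat_of_rt (isIrr_isCharacter χ₃.2) h3']
  · intro i
    fin_cases i <;> decide
  · intro i
    fin_cases i <;> norm_num
  · intro i
    fin_cases i <;> norm_num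
  · decide

theorem odd5_fi22 {S : Type u} [Group S] (h : IsoFi22 S) : H601.K4.Odd5 S := (good5_fi22 h).odd5

theorem rowA_fi22 {S : Type u} [Group S] [Finite S] (h : IsoFi22 S) : H714.K4.RowA S := by
  classical
  obtain ⟨χ, hinj, hχ⟩ := odd5_fi22 h
  refine H714.K4.rowA_of_finset (Finset.univ.image χ) ?_ ?_
  · rw [Finset.card_image_of_injective _ hinj, Finset.card_univ, Fintype.card_fin]
  · intro ψ hψ
    obtain ⟨i, -, rfl⟩ := Finset.mem_image.1 hψ
    exact hχ i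

end Cfsg.Agent.H714.Fi22.Row
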