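import Cfsg.Agent.H714.Fi22.Stab

/-!
# The collapsed matrices of the action of `Fi22` on 123552 points (helper714)
-/

set_option autoImplicit false
set_option maxRecDepth 100000

namespace Cfsg.Agent.H714.Fi22.Deg

open Cfsg Cfsg.Spor Cfsg.Agent.Lib.PermNet Cfsg.Agent.Lib.PermNetOrbit Cfsg.Agent.H714.Fi22.Rep
open Cfsg.Agent.H714.Fi22.Stab Cfsg.Agent.H956.K4.RatDeg

/-- the sizes of the classes -/
def kk (j : Fin 7) : ℕ := ![1, 1, 1575, 1575, 22400, 22400, 75600] j

/-- the check of a size -/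
noncomputable def sizeB (m b : ℕ) : Bool := and (Nat.beq (Nat.shiftRight m (Nat.pow 2 17)) 0) (Nat.beq (pc 17 m) b)

theorem size_of {m b : ℕ} (h : sizeB m b = true) : {p : ℕ | m.testBit p = true}.ncard = b := by
  unfold sizeB at h
  rw [Bool.and_eq_true] at h
  exact ncard_testBit h.1 h.2

theorem hk (j : Fin 7) : {p : ℕ | (U j).testBit p = true}.ncard = kk j := by
  have h : ∀ j : Fin 7, sizeB (U j) (kk j) = true := by decide +kernel
  exact size_of (h j)

/-- the mask of a cell of the collapsed matrix -/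
noncomputable def cell (c₁ i j : Fin 7) : ℕ := Nat.land (U c₁) (appWord (nw (wg i)) (U j))

theorem cell_of {c₁ i j : Fin 7} {b : ℕ} (h : sizeB (cell c₁ i j) b = true) :
    {p : ℕ | (U c₁).testBit p = true ∧ (U j).testBit (φ (wd (wg i)) p) = true}.ncard = b := by
  rw [← size_of h]
  congr 1
  ext p
  rw [Set.mem_ofPred_eq, Set.mem_ofPred_eq]
  have h1 : (cell c₁ i j).testBit p = ((U c₁).testBit p && (appWord (nw (wg i)) (U j)).testBit p) :=
    Nat.testBit_and _ _ _
  rw [h1, testBit_appWord (nw_ok _), Bool.and_eq_true, φ_wd]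

/-- the collapsed matrix of the class of size 1575 -/
def B2 (i j : Fin 7) : ℕ :=
  (![![0, 0, 1575, 0, 0, 0, 0], ![0, 0, 0, 1575, 0, 0, 0], ![1, 0, 54, 144, 512, 0, 864], ![0, 1, 144, 54, 0,
    512, 864], ![0, 0, 36, 0, 243, 324, 972], ![0, 0, 0, 36, 324, 243, 972], ![0, 0, 18, 18, 288, 288, 963]] :
    Fin 7 → Fin 7 → ℕ) i j

/-- the collapsed matrix of the class of size 75600 -/
def B6 (i j : Fin 7) : ℕ :=
  (![![0, 0, 0, 0, 0, 0, 75600], ![0, 0, 0, 0, 0, 0, 75600], ![0, 0, 864, 864, 13824, 13824, 46224], ![0, 0,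
    864, 864, 13824, 13824, 46224], ![0, 0, 972, 972, 13608, 13608, 46440], ![0, 0, 972, 972, 13608, 13608,
    46440], ![1, 1, 963, 963, 13760, 13760, 46152]] : Fin 7 → Fin 7 → ℕ) i j

end Cfsg.Agent.H714.Fi22.Deg
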