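import Cfsg.Agent.H714.Fi22.Cell

/-!
# The check of a collapsed matrix (helper714)
-/

set_option autoImplicit false
set_option maxRecDepth 100000

namespace Cfsg.Agent.H714.Fi22.Deg

open Cfsg Cfsg.Spor Cfsg.Agent.Lib.PermNet Cfsg.Agent.Lib.PermNetOrbit Cfsg.Agent.H714.Fi22.Rep
open Cfsg.Agent.H714.Fi22.Stab Cfsg.Agent.H956.K4.RatDeg

theorem c2 : ∀ i j : Fin 7, sizeB (cell 2 i j) (B2 i j) = true := by decide +kernel

end Cfsg.Agent.H714.Fi22.Deg
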