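import Cfsg.Agent.H714.Fi22.Def

/-! # The Coxeter relations, part 1 (helper714) -/

set_option autoImplicit false
set_option maxRecDepth 100000

namespace Cfsg.Agent.H714.Fi22.Rep

open Cfsg.Spor Cfsg.Agent.Lib.PermNet Cfsg.Agent.Lib.PermNetOrbit Cfsg.Agent.H714.Fi22.Nets

theorem p_aa : pairB .a .a = true := by decide +kernel
theorem p_ab : pairB .a .b = true := by decide +kernel
theorem p_ac : pairB .a .c = true := by decide +kernel
theorem p_ad : pairB .a .d = true := by decide +kernel
theorem p_ae : pairB .a .e = true := by decide +kernel
theorem p_af : pairB .a .f = true := by decide +kernel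
theorem p_ag : pairB .a .g = true := by decide +kernel
theorem p_ah : pairB .a .h = true := by decide +kernel
theorem p_ai : pairB .a .i = true := by decide +kernel
theorem p_bb : pairB .b .b = true := by decide +kernel
theorem p_bc : pairB .b .c = true := by decide +kernel
theorem p_bd : pairB .b .d = true := by decide +kernel
theorem p_be : pairB .b .e = true := by decide +kernel
theorem p_bf : pairB .b .f = true := by decide +kernel
theorem p_bg : pairB .b .g = true := by decide +kernel

end Cfsg.Agent.H714.Fi22.Rep
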