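import Cfsg.Agent.H714.Fi22.Def

/-! # The Coxeter relations, part 2 (helper714) -/

set_option autoImplicit false
set_option maxRecDepth 100000

namespace Cfsg.Agent.H714.Fi22.Rep

open Cfsg.Spor Cfsg.Agent.Lib.PermNet Cfsg.Agent.Lib.PermNetOrbit Cfsg.Agent.H714.Fi22.Nets

theorem p_bh : pairB .b .h = true := by decide +kernel
theorem p_bi : pairB .b .i = true := by decide +kernel
theorem p_cc : pairB .c .c = true := by decide +kernel
theorem p_cd : pairB .c .d = true := by decide +kernel
theorem p_ce : pairB .c .e = true := by decide +kernel
theorem p_cf : pairB .c .f = true := by decide +kernel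
theorem p_cg : pairB .c .g = true := by decide +kernel
theorem p_ch : pairB .c .h = true := by decide +kernel
theorem p_ci : pairB .c .i = true := by decide +kernel
theorem p_dd : pairB .d .d = true := by decide +kernel
theorem p_de : pairB .d .e = true := by decide +kernel
theorem p_df : pairB .d .f = true := by decide +kernel
theorem p_dg : pairB .d .g = true := by decide +kernel
theorem p_dh : pairB .d .h = true := by decide +kernel
theorem p_di : pairB .d .i = true := by decide +kernel

end Cfsg.Agent.H714.Fi22.Rep
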