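import Cfsg.Agent.H714.Fi22.Def

/-! # The Coxeter relations, part 3 (helper714) -/

set_option autoImplicit false
set_option maxRecDepth 100000

namespace Cfsg.Agent.H714.Fi22.Rep

open Cfsg.Spor Cfsg.Agent.Lib.PermNet Cfsg.Agent.Lib.PermNetOrbit Cfsg.Agent.H714.Fi22.Nets

theorem p_ee : pairB .e .e = true := by decide +kernel
theorem p_ef : pairB .e .f = true := by decide +kernel
theorem p_eg : pairB .e .g = true := by decide +kernel
theorem p_eh : pairB .e .h = true := by decide +kernel
theorem p_ei : pairB .e .i = true := by decide +kernel
theorem p_ff : pairB .f .f = true := by decide +kernel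
theorem p_fg : pairB .f .g = true := by decide +kernel
theorem p_fh : pairB .f .h = true := by decide +kernel
theorem p_fi : pairB .f .i = true := by decide +kernel
theorem p_gg : pairB .g .g = true := by decide +kernel
theorem p_gh : pairB .g .h = true := by decide +kernel
theorem p_gi : pairB .g .i = true := by decide +kernel
theorem p_hh : pairB .h .h = true := by decide +kernel
theorem p_hi : pairB .h .i = true := by decide +kernel
theorem p_ii : pairB .i .i = true := by decide +kernel

end Cfsg.Agent.H714.Fi22.Rep
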