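import Cfsg.Prelude.Def_Spor_Fi22
import Cfsg.Agent.Lib.PermNetOrbit
import Cfsg.Agent.H714.Fi22.NetsA
import Cfsg.Agent.H714.Fi22.NetsB
import Cfsg.Agent.H714.Fi22.NetsC

/-!
# The networks of the action of `Fi22` on the `2 * 61776` cosets of `Ω₈⁺(2) : 3` (helper714)

The points are `p + 65536 * ε` with `p < 61776` and `ε = 0, 1`; the networks are the networks of the action on the
`61776` cosets of `Ω₈⁺(2) : S₃`, doubled, and a sign stage.
-/

set_option autoImplicit false
set_option maxRecDepth 100000

namespace Cfsg.Agent.H714.Fi22.Rep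

open Cfsg.Spor Cfsg.Agent.Lib.PermNet Cfsg.Agent.Lib.PermNetOrbit Cfsg.Agent.H714.Fi22.Nets

/-- The doubled network with a sign stage. -/
noncomputable def dbl (S : ℕ) (L : Net) : Net :=
  Net.rec (motive := fun _ => Net) (.cons S 65536 .nil)
    (fun M d _ ih => .cons (Nat.lor M (Nat.shiftLeft M 65536)) d ih) L

/-- The network of a generator. -/
noncomputable def net : Fi22.Gen → Net
  | .a => dbl aS aN
  | .b => dbl bS bN
  | .c => dbl cS cN
  | .d => dbl dS dN
  | .e => dbl eS eN
  | .f => dbl fS fN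
  | .g => dbl gS gN
  | .h => dbl hS hN
  | .i => dbl iS iN

theorem net_ok (x : Fi22.Gen) : (net x).ok (2 ^ 17) = true := by
  cases x <;> decide +kernel

/-- The word of networks. -/
noncomputable def nw (w : List Fi22.Gen) : List Net := w.map net

theorem nw_ok (w : List Fi22.Gen) : WOk (2 ^ 17) (nw w) := by
  intro L hL
  obtain ⟨x, _, rfl⟩ := List.mem_map.1 hL
  exact net_ok x

/-- One Coxeter relator. -/
noncomputable def pairB (x y : Fi22.Gen) : Bool :=
  checkEq 17 (wpow [net x, net y] (coxLabel Fi22.edges x y)) []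

end Cfsg.Agent.H714.Fi22.Rep
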