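import Cfsg.Agent.Lib.PermNetOrbit
import Cfsg.Agent.H956.K4.RatDeg

/-!
# Rational irreducible characters from a permutation representation on sets of bits (helper714)

`Dat φ K z U r γ c` : the orbits of the stabilizer `K` of the point `z` on the orbit of `z` are the sets `U j` (bit
masks) of the points `r j = φ (γ j) z`.  `Dat.deg` : an eigenvector of the collapsed matrix of the orbital of the class
`c₁` gives an irreducible character with rational values.
-/

set_option autoImplicit false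

namespace Cfsg.Agent.H714.NetDeg

open Cfsg Cfsg.Agent.Lib.PermNetOrbit Cfsg.Agent.H956.K4.RatDeg

universe u

variable {G : Type u} [Group G] {n : ℕ}

/-- The orbits of the stabilizer of a point. -/
structure Dat (φ : G →* Equiv.Perm ℕ) (K : Subgroup G) (z : ℕ) (U r : Fin n → ℕ) (γ : Fin n → G) (c : Fin n) :
    Prop where
  orb : ∀ j p, (U j).testBit p = true ↔ ∃ g ∈ K, φ g (r j) = p
  disj : ∀ i j, i ≠ j → U i &&& U j = 0
  inv : ∀ g p, (∃ j, (U j).testBit p = true) → ∃ j, (U j).testBit (φ g p) = true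
  gam : ∀ j, φ (γ j) z = r j
  base : r c = z
  fix : ∀ g ∈ K, φ g z = z
  stab : ∀ g, φ g z = z → g ∈ K

theorem finite_bits (m : ℕ) : {p : ℕ | m.testBit p = true}.Finite := by
  refine Set.Finite.subset (Set.finite_lt_nat (m.log2 + 1)) ?_
  intro p hp
  have h1 : m.testBit p = true := hp
  show p < m.log2 + 1
  by_contra hcon
  have h2 : m < 2 ^ p := lt_of_lt_of_le (Nat.lt_log2_self) (Nat.pow_le_pow_right (by norm_num) (by omega))
  rw [Nat.testBit_lt_two_pow h2] at h1
  exact absurd h1 (by simp)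

variable {φ : G →* Equiv.Perm ℕ} {K : Subgroup G} {z : ℕ} {U r : Fin n → ℕ} {γ : Fin n → G} {c : Fin n}

theorem Dat.eq_of (h : Dat φ K z U r γ c) {i j : Fin n} {p : ℕ} (hi : (U i).testBit p = true)
    (hj : (U j).testBit p = true) : i = j := by
  by_contra hne
  have h1 := congrArg (fun m => Nat.testBit m p) (h.disj i j hne)
  simp [hi, hj] at h1

/-- **Degrees.** -/
theorem Dat.deg [Finite G] (h : Dat φ K z U r γ c) (c₁ : Fin n) (B : Fin n → Fin n → ℕ)
    (hB : ∀ i j, {p : ℕ | (U c₁).testBit p = true ∧ (U j).testBit (φ (γ i) p) = true}.ncard = B i j)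
    (kk : Fin n → ℕ) (hk : ∀ j, {p : ℕ | (U j).testBit p = true}.ncard = kk j)
    (a : Fin n → ℚ) (t : ℚ) (L : Fin n → Fin n → ℚ) (d : ℕ)
    (ha : a c = 1) (hBa : ∀ i, ∑ j, (B i j : ℚ) * a j = t * a i)
    (hL : ∀ i j, ∑ l, L i l * ((B l j : ℚ) - if l = j then t else 0) =
      (if i = j then 1 else 0) - if j = c then a i else 0)
    (hd : (d : ℚ) * ∑ j, (kk j : ℚ) * (a j * a j) = ∑ j, (kk j : ℚ)) :
    ∃ χ : IrrCharacter G, charDegree (χ : G → ℂ) = d ∧ Rt (χ : G → ℂ) := by
  classical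
  let X := {p : ℕ // ∃ j, (U j).testBit p = true}
  let act : MulAction G X :=
    { smul := fun g x => ⟨φ g x.1, h.inv g x.1 x.2⟩
      one_smul := fun x => Subtype.ext (by
        show φ 1 x.1 = x.1
        rw [map_one]; rfl)
      mul_smul := fun g g' x => Subtype.ext (by
        show φ (g * g') x.1 = φ g (φ g' x.1)
        rw [map_mul]; rfl) }
  have hsm : ∀ (g : G) (x : X), (g • x).1 = φ g x.1 := fun _ _ => rfl
  have hXf : Finite X := by
    have : (⋃ j, {p : ℕ | (U j).testBit p = true}).Finite := Set.finite_iUnion fun j => finite_bits _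
    refine Set.Finite.subset this ?_
    rintro p ⟨j, hj⟩
    exact Set.mem_iUnion.2 ⟨j, hj⟩
  have ft : Fintype X := Fintype.ofFinite X
  let cls : X → Fin n := fun x => x.2.choose
  have hcls : ∀ x : X, (U (cls x)).testBit x.1 = true := fun x => x.2.choose_spec
  have hcls' : ∀ (x : X) j, (U j).testBit x.1 = true → cls x = j := fun x j hj => h.eq_of (hcls x) hj
  have hr : ∀ j, (U j).testBit (r j) = true := fun j => (h.orb j (r j)).2 ⟨1, K.one_mem, by rw [map_one]; rfl⟩
  let rr : Fin n → X := fun j => ⟨r j, j, hr j⟩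
  have hreach : ∀ x : X, ∃ g ∈ K, g • rr (cls x) = x := by
    intro x
    obtain ⟨g, hg, h1⟩ := (h.orb (cls x) x.1).1 (hcls x)
    exact ⟨g, hg, Subtype.ext h1⟩
  let x₀ : X := rr c
  have hx₀ : x₀.1 = z := h.base
  have hγ : ∀ j, γ j • x₀ = rr j := fun j => Subtype.ext (by rw [hsm, hx₀, h.gam])
  have htr0 : ∀ x : X, ∃ g : G, g • x₀ = x := by
    intro x
    obtain ⟨g, -, hg⟩ := hreach x
    exact ⟨g * γ (cls x), by rw [mul_smul, hγ, hg]⟩
  have hpre : MulAction.IsPretransitive G X := by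
    refine ⟨fun x y => ?_⟩
    obtain ⟨g, rfl⟩ := htr0 x
    obtain ⟨g', rfl⟩ := htr0 y
    exact ⟨g' * g⁻¹, by rw [mul_smul, inv_smul_smul]⟩
  have hclsK : ∀ g ∈ K, ∀ x, cls (g • x) = cls x := by
    intro g hg x
    apply hcls'
    rw [hsm]
    obtain ⟨g', hg', h1⟩ := (h.orb (cls x) x.1).1 (hcls x)
    exact (h.orb (cls x) _).2 ⟨g * g', K.mul_mem hg hg', by rw [map_mul, Equiv.Perm.mul_apply, h1]⟩
  have hcard : ∀ j, (Finset.univ.filter fun y : X => cls y = j).card = kk j := by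
    intro j
    rw [← hk j, ← Set.ncard_coe_finset, ← Set.ncard_image_of_injective _ Subtype.val_injective]
    congr 1
    ext p
    constructor
    · rintro ⟨x, hx, rfl⟩
      have h1 : cls x = j := (Finset.mem_filter.1 hx).2
      rw [← h1]
      exact hcls x
    · intro hp
      exact ⟨⟨p, j, hp⟩, Finset.mem_coe.2 (Finset.mem_filter.2 ⟨Finset.mem_univ _, hcls' _ _ hp⟩), rfl⟩
  have hN : Fintype.card X = ∑ j, kk j := by
    rw [← Finset.card_univ, Finset.card_eq_sum_card_fiberwise (f := cls) (t := Finset.univ) fun _ _ => Finset.mem_univ _]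
    exact Finset.sum_congr rfl fun j _ => hcard j
  refine exists_of_graph_rat (X := X) (fun x y => decide (∃ g : G, g • x₀ = x ∧ g • rr c₁ = y)) ?_ x₀ K ?_ cls rr hclsK
    hreach B ?_ kk hcard c (hcls' _ _ (hr c)) a t L d (∑ j, kk j) hN ha hBa hL (by rw [hd]; push_cast; rfl)
  · intro g x y
    rw [decide_eq_decide]
    constructor
    · rintro ⟨g', h1, h2⟩
      exact ⟨g⁻¹ * g', by rw [mul_smul, h1, inv_smul_smul], by rw [mul_smul, h2, inv_smul_smul]⟩
    · rintro ⟨g', h1, h2⟩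
      exact ⟨g * g', by rw [mul_smul, h1], by rw [mul_smul, h2]⟩
  · intro g hg
    exact Subtype.ext (by rw [hsm, hx₀, h.fix g hg])
  · intro i j
    rw [← hB i j, ← Set.ncard_coe_finset]
    have hinj : Function.Injective fun p : ℕ => φ (γ i) p := (φ (γ i)).injective
    rw [← Set.ncard_image_of_injective _ Subtype.val_injective, ← Set.ncard_image_of_injective
      {p : ℕ | (U c₁).testBit p = true ∧ (U j).testBit (φ (γ i) p) = true} hinj]
    congr 1
    ext p
    constructor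
    · rintro ⟨x, hx, rfl⟩
      obtain ⟨-, h1, h2⟩ := Finset.mem_filter.1 (Finset.mem_coe.1 hx)
      rw [decide_eq_true_eq] at h1
      obtain ⟨g, h3, h4⟩ := h1
      have h5 : ((γ i)⁻¹ * g) • x₀ = x₀ := by rw [mul_smul, h3, ← hγ i, inv_smul_smul]
      have h6 : (γ i)⁻¹ * g ∈ K := h.stab _ (by
        have := congrArg Subtype.val h5
        rwa [hsm, hx₀] at this)
      refine ⟨φ ((γ i)⁻¹ * g) (r c₁), ⟨(h.orb c₁ _).2 ⟨_, h6, rfl⟩, ?_⟩, ?_⟩
      · rw [← Equiv.Perm.mul_apply, ← map_mul, mul_inv_cancel_left]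
        have h7 : φ g (r c₁) = x.1 := congrArg Subtype.val h4
        rw [h7, ← h2]
        exact hcls x
      · show φ (γ i) (φ ((γ i)⁻¹ * g) (r c₁)) = x.1
        rw [← Equiv.Perm.mul_apply, ← map_mul, mul_inv_cancel_left]
        exact congrArg Subtype.val h4
    · rintro ⟨p, ⟨h1, h2⟩, rfl⟩
      obtain ⟨g, hg, h3⟩ := (h.orb c₁ p).1 h1
      refine ⟨⟨φ (γ i) p, j, h2⟩, Finset.mem_coe.2 (Finset.mem_filter.2 ⟨Finset.mem_univ _, ?_, hcls' _ _ h2⟩), rfl⟩
      rw [decide_eq_true_eq]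
      refine ⟨γ i * g, ?_, Subtype.ext ?_⟩
      · rw [mul_smul, show g • x₀ = x₀ from Subtype.ext (by rw [hsm, hx₀, h.fix g hg]), hγ]
      · show φ (γ i * g) (r c₁) = φ (γ i) p
        rw [map_mul, Equiv.Perm.mul_apply, h3]

end Cfsg.Agent.H714.NetDeg
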