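import Cfsg.Agent.H714.Fi22.Words

/-! # Orbits of the stabilizer (helper714) -/

set_option autoImplicit false
set_option maxRecDepth 100000

namespace Cfsg.Agent.H714.Fi22.Stab

open Cfsg.Spor Cfsg.Agent.Lib.PermNet Cfsg.Agent.Lib.PermNetOrbit Cfsg.Agent.H714.Fi22.Rep

theorem o0 : orbB 0 0 U0 = true := by decide +kernel
theorem o1 : orbB 0 65536 U1 = true := by decide +kernel
theorem o2 : orbB 3 1 U2 = true := by decide +kernel
theorem o3 : orbB 3 65537 U3 = true := by decide +kernel

end Cfsg.Agent.H714.Fi22.Stab
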