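import Cfsg.Agent.H714.Fi22.Words

/-! # Orbits of the stabilizer (helper714) -/

set_option autoImplicit false
set_option maxRecDepth 100000

namespace Cfsg.Agent.H714.Fi22.Stab

open Cfsg.Spor Cfsg.Agent.Lib.PermNet Cfsg.Agent.Lib.PermNetOrbit Cfsg.Agent.H714.Fi22.Rep

theorem o6 : orbB 3 23976 U6 = true := by decide +kernel

/-- one generator -/
noncomputable def ws1 (x : Fi22.Gen) : List (List Net) := [[net x]]

theorem closed (x : Fi22.Gen) : closedB (ws1 x) V = true := by
  cases x <;> decide +kernel

end Cfsg.Agent.H714.Fi22.Stab
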