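import Cfsg.Agent.H714.Fi22.Def

/-! # One of the further relations of `Fi22` (helper714) -/

set_option autoImplicit false
set_option maxRecDepth 100000

namespace Cfsg.Agent.H714.Fi22.Rep

open Cfsg.Spor Cfsg.Agent.Lib.PermNet Cfsg.Agent.Lib.PermNetOrbit Cfsg.Agent.H714.Fi22.Nets

theorem e7a0 : checkPlane 17 (wpow (nw [.a, .b, .c, .d, .e, .f, .h]) 9) [] 0 = true := by decide +kernel
theorem e7a1 : checkPlane 17 (wpow (nw [.a, .b, .c, .d, .e, .f, .h]) 9) [] 1 = true := by decide +kernel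
theorem e7a2 : checkPlane 17 (wpow (nw [.a, .b, .c, .d, .e, .f, .h]) 9) [] 2 = true := by decide +kernel
theorem e7a3 : checkPlane 17 (wpow (nw [.a, .b, .c, .d, .e, .f, .h]) 9) [] 3 = true := by decide +kernel
theorem e7a4 : checkPlane 17 (wpow (nw [.a, .b, .c, .d, .e, .f, .h]) 9) [] 4 = true := by decide +kernel
theorem e7a5 : checkPlane 17 (wpow (nw [.a, .b, .c, .d, .e, .f, .h]) 9) [] 5 = true := by decide +kernel
theorem e7a6 : checkPlane 17 (wpow (nw [.a, .b, .c, .d, .e, .f, .h]) 9) [] 6 = true := by decide +kernel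
theorem e7a7 : checkPlane 17 (wpow (nw [.a, .b, .c, .d, .e, .f, .h]) 9) [] 7 = true := by decide +kernel
theorem e7a8 : checkPlane 17 (wpow (nw [.a, .b, .c, .d, .e, .f, .h]) 9) [] 8 = true := by decide +kernel
theorem e7a9 : checkPlane 17 (wpow (nw [.a, .b, .c, .d, .e, .f, .h]) 9) [] 9 = true := by decide +kernel
theorem e7a10 : checkPlane 17 (wpow (nw [.a, .b, .c, .d, .e, .f, .h]) 9) [] 10 = true := by decide +kernel
theorem e7a11 : checkPlane 17 (wpow (nw [.a, .b, .c, .d, .e, .f, .h]) 9) [] 11 = true := by decide +kernel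
theorem e7a12 : checkPlane 17 (wpow (nw [.a, .b, .c, .d, .e, .f, .h]) 9) [] 12 = true := by decide +kernel
theorem e7a13 : checkPlane 17 (wpow (nw [.a, .b, .c, .d, .e, .f, .h]) 9) [] 13 = true := by decide +kernel
theorem e7a14 : checkPlane 17 (wpow (nw [.a, .b, .c, .d, .e, .f, .h]) 9) [] 14 = true := by decide +kernel
theorem e7a15 : checkPlane 17 (wpow (nw [.a, .b, .c, .d, .e, .f, .h]) 9) [] 15 = true := by decide +kernel
theorem e7a16 : checkPlane 17 (wpow (nw [.a, .b, .c, .d, .e, .f, .h]) 9) [] 16 = true := by decide +kernel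

theorem e7a_eq : (wperm (nw [.a, .b, .c, .d, .e, .f, .h])) ^ 9 = 1 := by
  rw [← wperm_wpow, ← wperm_nil]
  refine wperm_eq_of_planes (k := 17) (Cfsg.Agent.Lib.PermNetOrbit.WOk.wpow (nw_ok _) _) (WOk.nil _) ?_
  intro b hb
  interval_cases b
  · exact e7a0
  · exact e7a1
  · exact e7a2
  · exact e7a3
  · exact e7a4
  · exact e7a5
  · exact e7a6
  · exact e7a7
  · exact e7a8
  · exact e7a9
  · exact e7a10
  · exact e7a11
  · exact e7a12
  · exact e7a13
  · exact e7a14
  · exact e7a15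
  · exact e7a16

end Cfsg.Agent.H714.Fi22.Rep
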