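import Cfsg.Agent.H714.Fi22.Cox1
import Cfsg.Agent.H714.Fi22.Cox2
import Cfsg.Agent.H714.Fi22.Cox3
import Cfsg.Agent.H714.Fi22.RelSpi
import Cfsg.Agent.H714.Fi22.RelE7a
import Cfsg.Agent.H714.Fi22.RelE7b

/-!
# The action of `Fi22` on the `2 * 61776` cosets of `Ω₈⁺(2) : 3` (helper714)
-/

set_option autoImplicit false
set_option maxRecDepth 100000

namespace Cfsg.Agent.H714.Fi22.Rep

open Cfsg.Spor Cfsg.Agent.Lib.PermNet Cfsg.Agent.Lib.PermNetOrbit Cfsg.Agent.H714.Fi22.Nets

/-- the position of a generator -/
def pos : Fi22.Gen → ℕ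
  | .a => 0
  | .b => 1
  | .c => 2
  | .d => 3
  | .e => 4
  | .f => 5
  | .g => 6
  | .h => 7
  | .i => 8

theorem pairB_of_le (x y : Fi22.Gen) (h : pos x ≤ pos y) : pairB x y = true := by
  cases x <;> cases y
  · exact p_aa
  · exact p_ab
  · exact p_ac
  · exact p_ad
  · exact p_ae
  · exact p_af
  · exact p_ag
  · exact p_ah
  · exact p_ai
  · exact absurd h (by decide)
  · exact p_bb
  · exact p_bc
  · exact p_bd
  · exact p_be
  · exact p_bf
  · exact p_bg
  · exact p_bh
  · exact p_bi
  · exact absurd h (by decide)
  · exact absurd h (by decide)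
  · exact p_cc
  · exact p_cd
  · exact p_ce
  · exact p_cf
  · exact p_cg
  · exact p_ch
  · exact p_ci
  · exact absurd h (by decide)
  · exact absurd h (by decide)
  · exact absurd h (by decide)
  · exact p_dd
  · exact p_de
  · exact p_df
  · exact p_dg
  · exact p_dh
  · exact p_di
  · exact absurd h (by decide)
  · exact absurd h (by decide)
  · exact absurd h (by decide)
  · exact absurd h (by decide)
  · exact p_ee
  · exact p_ef
  · exact p_eg
  · exact p_eh
  · exact p_ei
  · exact absurd h (by decide)
  · exact absurd h (by decide)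
  · exact absurd h (by decide)
  · exact absurd h (by decide)
  · exact absurd h (by decide)
  · exact p_ff
  · exact p_fg
  · exact p_fh
  · exact p_fi
  · exact absurd h (by decide)
  · exact absurd h (by decide)
  · exact absurd h (by decide)
  · exact absurd h (by decide)
  · exact absurd h (by decide)
  · exact absurd h (by decide)
  · exact p_gg
  · exact p_gh
  · exact p_gi
  · exact absurd h (by decide)
  · exact absurd h (by decide)
  · exact absurd h (by decide)
  · exact absurd h (by decide)
  · exact absurd h (by decide)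
  · exact absurd h (by decide)
  · exact absurd h (by decide)
  · exact p_hh
  · exact p_hi
  · exact absurd h (by decide)
  · exact absurd h (by decide)
  · exact absurd h (by decide)
  · exact absurd h (by decide)
  · exact absurd h (by decide)
  · exact absurd h (by decide)
  · exact absurd h (by decide)
  · exact absurd h (by decide)
  · exact p_ii

/-- The permutation of a generator. -/
noncomputable def f (x : Fi22.Gen) : Equiv.Perm ℕ := (net x).perm

theorem wperm_nw (w : List Fi22.Gen) : wperm (nw w) = (w.map f).prod := by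
  rw [wperm, nw, List.map_map]; rfl

theorem pair_rel' (x y : Fi22.Gen) (h : pos x ≤ pos y) : (f x * f y) ^ coxLabel Fi22.edges x y = 1 := by
  have h1 := wperm_eq_of_checkEq (k := 17) (w' := [])
    (Cfsg.Agent.Lib.PermNetOrbit.WOk.wpow (nw_ok [x, y]) _) (WOk.nil _) (pairB_of_le x y h)
  rw [wperm_nil, wperm_wpow] at h1
  change (wperm (nw [x, y])) ^ coxLabel Fi22.edges x y = 1 at h1
  rw [wperm_nw] at h1
  simpa using h1

theorem label_symm (x y : Fi22.Gen) : coxLabel Fi22.edges x y = coxLabel Fi22.edges y x := by
  cases x <;> cases y <;> decide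

theorem pair_rel (x y : Fi22.Gen) : (f x * f y) ^ coxLabel Fi22.edges x y = 1 := by
  rcases le_total (pos x) (pos y) with h | h
  · exact pair_rel' x y h
  · have h1 := pair_rel' y x h
    rw [label_symm x y]
    have h2 : f x * f y = (f y)⁻¹ * (f y * f x) * ((f y)⁻¹)⁻¹ := by group
    rw [h2, conj_pow, h1, mul_one, inv_inv, inv_mul_cancel]

theorem extra_rel : ∀ r ∈ Fi22.extra, FreeGroup.lift f r = 1 := by
  intro r hr
  rw [Fi22.extra, List.mem_cons, List.mem_cons, List.mem_cons] at hr
  rcases hr with rfl | rfl | rfl | hr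
  · have := spi_eq
    rw [wperm_nw] at this
    simpa [mul_assoc] using this
  · have := e7a_eq
    rw [wperm_nw] at this
    simpa [mul_assoc] using this
  · have := e7b_eq
    rw [wperm_nw] at this
    simpa [mul_assoc] using this
  · exact absurd hr (by simp)

/-- The permutation representation. -/
noncomputable def φ : Fi22 →* Equiv.Perm ℕ :=
  PresentedGroup.toGroup (f := f) (cox_lift_eq_one f Fi22.edges Fi22.extra (fun x _ y _ => pair_rel x y) extra_rel)

theorem φ_of (x : Fi22.Gen) : φ (PresentedGroup.of x) = (net x).perm := PresentedGroup.toGroup.of _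

/-- the value of a word -/
def wd (w : List Fi22.Gen) : Fi22 := (w.map fun x => (PresentedGroup.of x : Fi22)).prod

theorem φ_wd (w : List Fi22.Gen) : φ (wd w) = wperm (nw w) := by
  rw [wd, map_list_prod, List.map_map, nw, wperm, List.map_map]
  congr 1

theorem φ_wd_apply (w : List Fi22.Gen) (p : ℕ) : φ (wd w) p = ptWord (nw w) p := by
  rw [φ_wd, ptWord_eq (nw_ok w)]

theorem wd_append (v w : List Fi22.Gen) : wd (v ++ w) = wd v * wd w := by simp [wd]

end Cfsg.Agent.H714.Fi22.Rep
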