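import Cfsg.Agent.H714.Fi22.OrbA
import Cfsg.Agent.H714.Fi22.OrbB
import Cfsg.Agent.H714.Fi22.OrbC
import Cfsg.Agent.H714.Fi22.NetDeg
import Cfsg.Agent.Fischer.Fi22PtsRep
import Cfsg.Agent.NotCT.Orders

/-!
# The stabilizer of a point is `K` (helper714)

A chain of stabilizers of transpositions gives `|K| ≥ 360 * 56 * 27 * 16 * 10 * 6 = |Fi22| / 123552`.
-/

set_option autoImplicit false
set_option maxRecDepth 100000

namespace Cfsg.Agent.H714.Fi22.Stab

open Cfsg.Spor Cfsg.Agent.Lib.PermNet Cfsg.Agent.Lib.PermNetOrbit Cfsg.Agent.H714.Fi22.Rep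
open Cfsg.Agent.Fischer

theorem card_fi22 : Nat.card Fi22 = 64561751654400 := NotCT.Orders.fi22 ⟨MulEquiv.refl _⟩

theorem finite_fi22 : Finite Fi22 := Nat.finite_of_card_ne_zero (by rw [card_fi22]; norm_num)

/-- the action of `K` on the transpositions -/
noncomputable def ψ : K →* Equiv.Perm ℕ := Fi22PtsRep.φ.comp K.subtype

/-- the words on the transpositions -/
noncomputable def wsP (l : List (List Fi22.Gen)) : List (List Net) := l.map Fi22PtsRep.nw

theorem wsP_ok (l : List (List Fi22.Gen)) : WsOk (2 ^ 12) (wsP l) := by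
  intro w hw
  obtain ⟨v, _, rfl⟩ := List.mem_map.1 hw
  exact Fi22PtsRep.nw_ok v

theorem wd_mem {w : List Fi22.Gen} (hw : w ∈ kws) : wd w ∈ K := Subgroup.subset_closure ⟨w, hw, rfl⟩

theorem wd_eq (w : List Fi22.Gen) : wd w = Fi22PtsRep.wd w := rfl

theorem himg {l : List (List Fi22.Gen)} (hl : ∀ w ∈ l, w ∈ kws) : ∀ w ∈ wsP l, ∃ g, ψ g = wperm w := by
  intro w hw
  obtain ⟨v, hv, rfl⟩ := List.mem_map.1 hw
  refine ⟨⟨wd v, wd_mem (hl v hv)⟩, ?_⟩
  show Fi22PtsRep.φ (wd v) = _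
  rw [wd_eq, Fi22PtsRep.φ_wd]

/-- the checks of a step of the chain -/
noncomputable def stepB (l : List (List Fi22.Gen)) (qs : List ℕ) (p m r : ℕ) : Bool :=
  and (fixAllB (wsP l) qs) (and (Nat.ble m (pc 12 (sat (wsP l) r (Nat.pow 2 p))))
    (Nat.beq (Nat.shiftRight (sat (wsP l) r (Nat.pow 2 p)) (Nat.pow 2 12)) 0))

theorem step {l : List (List Fi22.Gen)} {qs : List ℕ} {p m r : ℕ} (hl : ∀ w ∈ l, w ∈ kws)
    (h : stepB l qs p m r = true) : m * Nat.card (stabL ψ (p :: qs)) ≤ Nat.card (stabL ψ qs) := by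
  have := finite_fi22
  unfold stepB at h
  rw [Bool.and_eq_true, Bool.and_eq_true] at h
  exact stabL_step_of_check ψ qs p m r (wsP_ok l) (himg hl) h.1 h.2.1 h.2.2

theorem s0 : stepB kws [] 154 360 3 = true := by decide +kernel
theorem s1 : stepB [[.a, .b], [.a, .c], [.a, .d], [.a, .e], [.a, .i], .a :: t8] [154] 88 56 9 = true := by
  decide +kernel
theorem s2 : stepB [[.a, .b], [.a, .c], [.a, .d], [.a, .i], .a :: t8] [88, 154] 40 27 7 = true := by
  decide +kernel
theorem s3 : stepB [[.a, .b], [.a, .c], [.a, .i], .a :: t8] [40, 88, 154] 16 16 4 = true := by decide +kernel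
theorem s4 : stepB [[.a, .b], [.a, .i], .a :: t8] [16, 40, 88, 154] 6 10 2 = true := by decide +kernel
theorem s5 : stepB [[.a, .i], .a :: t8] [6, 16, 40, 88, 154] 2 6 2 = true := by decide +kernel

theorem card_K : 522547200 ≤ Nat.card K := by
  have := finite_fi22
  have h0 := step (fun w hw => hw) s0
  have h1 := step (by decide) s1
  have h2 := step (by decide) s2
  have h3 := step (by decide) s3
  have h4 := step (by decide) s4
  have h5 := step (by decide) s5
  have h6 : 1 ≤ Nat.card (stabL ψ [2, 6, 16, 40, 88, 154]) := Nat.card_pos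
  have h7 : Nat.card (stabL ψ []) ≤ Nat.card K := Nat.le_of_dvd Nat.card_pos (Subgroup.card_subgroup_dvd_card _)
  omega

/-- the classes -/
noncomputable def U (j : Fin 7) : ℕ := ![U0, U1, U2, U3, U4, U5, U6] j

/-- the points -/
def rp (j : Fin 7) : ℕ := ![0, 65536, 1, 65537, 1576, 67112, 23976] j

/-- the words to the points -/
def wg (j : Fin 7) : List Fi22.Gen :=
  ![[], [.a], [.h], [.h, .a], [.h, .i, .d, .h], [.h, .i, .d, .h, .a], [.h, .i, .d, .e, .c, .d, .h]] j

theorem orb (j : Fin 7) (q : ℕ) : (U j).testBit q = true ↔ ∃ g ∈ K, φ g (rp j) = q := by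
  fin_cases j
  · exact orb_of o0 q
  · exact orb_of o1 q
  · exact orb_of o2 q
  · exact orb_of o3 q
  · exact orb_of o4 q
  · exact orb_of o5 q
  · exact orb_of o6 q

theorem disj : ∀ i j, i ≠ j → U i &&& U j = 0 := by
  have h : ∀ i j : Fin 7, i ≠ j → Nat.beq (Nat.land (U i) (U j)) 0 = true := by decide +kernel
  exact fun i j hij => Nat.eq_of_beq_eq_true (h i j hij)

theorem gam (j : Fin 7) : φ (wd (wg j)) 0 = rp j := by
  have h : ∀ j : Fin 7, Nat.beq (ptWord (nw (wg j)) 0) (rp j) = true := by decide +kernel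
  rw [φ_wd_apply]
  exact Nat.eq_of_beq_eq_true (h j)

/-- the union of the classes -/
theorem V_eq : Nat.beq V (Nat.lor U0 (Nat.lor U1 (Nat.lor U2 (Nat.lor U3 (Nat.lor U4 (Nat.lor U5 U6)))))) = true := by
  decide +kernel

theorem eq_of_or {V A B C D E F G : ℕ}
    (h : Nat.beq V (Nat.lor A (Nat.lor B (Nat.lor C (Nat.lor D (Nat.lor E (Nat.lor F G)))))) = true) :
    V = A ||| (B ||| (C ||| (D ||| (E ||| (F ||| G))))) := Nat.eq_of_beq_eq_true h

theorem eq_of_card {V A : ℕ} (h : Nat.beq (Nat.shiftRight V (Nat.pow 2 17)) 0 = true)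
    (h' : Nat.beq (pc 17 V) A = true) : {p : ℕ | V.testBit p = true}.ncard = A := ncard_testBit h h'

theorem mem_V (p : ℕ) : V.testBit p = true ↔ ∃ j, (U j).testBit p = true := by
  rw [eq_of_or V_eq]
  simp only [Nat.testBit_or, Bool.or_eq_true]
  constructor
  · rintro (h | h | h | h | h | h | h)
    exacts [⟨0, h⟩, ⟨1, h⟩, ⟨2, h⟩, ⟨3, h⟩, ⟨4, h⟩, ⟨5, h⟩, ⟨6, h⟩]
  · rintro ⟨j, hj⟩
    fin_cases j
    · exact Or.inl hj
    · exact Or.inr (Or.inl hj)
    · exact Or.inr (Or.inr (Or.inl hj))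
    · exact Or.inr (Or.inr (Or.inr (Or.inl hj)))
    · exact Or.inr (Or.inr (Or.inr (Or.inr (Or.inl hj))))
    · exact Or.inr (Or.inr (Or.inr (Or.inr (Or.inr (Or.inl hj)))))
    · exact Or.inr (Or.inr (Or.inr (Or.inr (Or.inr (Or.inr hj)))))

theorem closure_gen : Subgroup.closure (Set.range fun x : Fi22.Gen => (PresentedGroup.of x : Fi22)) = ⊤ :=
  PresentedGroup.closure_range_of _

theorem V_inv (g : Fi22) (p : ℕ) : V.testBit (φ g p) = V.testBit p := by
  have hg : g ∈ Subgroup.closure (Set.range fun x : Fi22.Gen => (PresentedGroup.of x : Fi22)) := by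
    rw [closure_gen]; trivial
  induction hg using Subgroup.closure_induction generalizing p with
  | mem y hy =>
    obtain ⟨x, rfl⟩ := hy
    have h1 := closedB_spec (N := 2 ^ 17) (ws := ws1 x) (by
      intro w hw
      rw [ws1, List.mem_singleton] at hw
      subst hw
      exact WOk.cons (net_ok x) (WOk.nil _)) (closed x) [net x] (List.mem_singleton.2 rfl) p
    rw [wperm_cons, wperm_nil, mul_one] at h1
    show V.testBit (φ (PresentedGroup.of x) p) = _
    rw [φ_of]
    exact h1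
  | one => rw [map_one]; rfl
  | mul x y _ _ hx hy => rw [map_mul, Equiv.Perm.mul_apply, hx, hy]
  | inv x _ hx => rw [← hx (φ x⁻¹ p), ← Equiv.Perm.mul_apply, ← map_mul, mul_inv_cancel, map_one]; rfl

theorem orbit_zero (p : ℕ) : (∃ g : Fi22, φ g 0 = p) ↔ V.testBit p = true := by
  constructor
  · rintro ⟨g, rfl⟩
    rw [V_inv, mem_V]
    exact ⟨0, (orb 0 0).2 ⟨1, K.one_mem, by rw [map_one]; rfl⟩⟩
  · intro h
    obtain ⟨j, hj⟩ := (mem_V p).1 h
    obtain ⟨g, -, hg⟩ := (orb j p).1 hj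
    exact ⟨g * wd (wg j), by rw [map_mul, Equiv.Perm.mul_apply, gam, hg]⟩

theorem V_small : Nat.beq (Nat.shiftRight V (Nat.pow 2 17)) 0 = true := by decide +kernel

theorem V_pc : Nat.beq (pc 17 V) 123552 = true := by decide +kernel

theorem fix0 (g : Fi22) (hg : g ∈ K) : φ g 0 = 0 := by
  have h : U0 = 2 ^ 0 := Nat.eq_of_beq_eq_true (by decide +kernel : Nat.beq U0 (Nat.pow 2 0) = true)
  have h1 := (orb 0 (φ g 0)).2 ⟨g, hg, rfl⟩
  change U0.testBit (φ g 0) = true at h1
  rw [h, Nat.testBit_two_pow] at h1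
  have h2 : 0 = φ g 0 := by simpa using h1
  exact h2.symm

theorem stab (g : Fi22) (hg : φ g 0 = 0) : g ∈ K := by
  have := finite_fi22
  let act : MulAction Fi22 ℕ := MulAction.compHom ℕ φ
  have hsm : ∀ (g : Fi22) (p : ℕ), g • p = φ g p := fun _ _ => rfl
  have h1 : Nat.card (MulAction.orbit Fi22 (0 : ℕ)) = 123552 := by
    rw [Nat.card_coe_set_eq, ← eq_of_card V_small V_pc]
    congr 1
    ext p
    exact orbit_zero p
  have h2 : Nat.card (MulAction.orbit Fi22 (0 : ℕ)) * Nat.card (MulAction.stabilizer Fi22 (0 : ℕ)) = Nat.card Fi22 := by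
    rw [Nat.card_congr (MulAction.orbitEquivQuotientStabilizer Fi22 (0 : ℕ)), ← Subgroup.index_eq_card, mul_comm,
      Subgroup.card_mul_index]
  rw [h1, card_fi22] at h2
  have h3 : Nat.card (MulAction.stabilizer Fi22 (0 : ℕ)) = 522547200 := by omega
  have hle : K ≤ MulAction.stabilizer Fi22 (0 : ℕ) := fun g hg => fix0 g hg
  have h4 : K = MulAction.stabilizer Fi22 (0 : ℕ) := Subgroup.eq_of_le_of_card_ge hle (by rw [h3]; exact card_K)
  rw [h4]
  exact hg

/-- **The data of the action of `Fi22` on `123552` points.** -/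
theorem dat : NetDeg.Dat φ K 0 U rp (fun j => wd (wg j)) 0 where
  orb := orb
  disj := disj
  inv := fun g p h => by rw [← mem_V, V_inv, mem_V]; exact h
  gam := gam
  base := rfl
  fix := fix0
  stab := stab

end Cfsg.Agent.H714.Fi22.Stab
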