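import Cfsg.Agent.H714.Fi22.Rep

/-!
# The stabilizer `Ω₈⁺(2) : 3` of a point: generators, orbits (helper714)

The group `K` is generated by the products `a x` of two transpositions of `Ω₈⁺(2) : S₃`.
-/

set_option autoImplicit false
set_option maxRecDepth 100000

namespace Cfsg.Agent.H714.Fi22.Stab

open Cfsg.Spor Cfsg.Agent.Lib.PermNet Cfsg.Agent.Lib.PermNetOrbit Cfsg.Agent.H714.Fi22.Rep

/-- the word of a transposition completing the diagram `E₈` -/
def t8 : List Fi22.Gen :=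
  [.h, .d, .e, .c, .d, .h, .i, .f, .e, .d, .h, .g, .f, .e, .d, .c, .d, .e, .f, .g, .h, .d, .e, .f, .i, .h, .d,
  .c, .e, .d, .h]

/-- the word of a transposition of another class -/
def t5 : List Fi22.Gen :=
  [.h, .i, .d, .h, .e, .f, .c, .d, .e, .b, .c, .d, .h, .i, .f, .d, .e, .b, .c, .d, .h, .g, .f, .e, .d, .c, .b,
  .a, .b, .c, .d, .e, .f, .g, .h, .d, .c, .b, .e, .d, .f, .i, .h, .d, .c, .b, .e, .d, .c, .f, .e, .h, .d, .i,
  .h]

/-- the words of the generators of the stabilizer -/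
def kws : List (List Fi22.Gen) :=
  [[.a, .b], [.a, .c], [.a, .d], [.a, .e], [.a, .f], [.a, .g], [.a, .i], .a :: t8, .a :: t5]

/-- the generators of the stabilizer -/
def S : Set Fi22 := {g | ∃ w ∈ kws, wd w = g}

/-- **the stabilizer** -/
def K : Subgroup Fi22 := Subgroup.closure S

/-- the words of networks -/
noncomputable def wsK : List (List Net) := kws.map nw

theorem wsK_ok : WsOk (2 ^ 17) wsK := by
  intro w hw
  obtain ⟨v, _, rfl⟩ := List.mem_map.1 hw
  exact nw_ok v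

theorem S_wsK : ∀ g ∈ S, ∃ w ∈ wsK, wperm w = φ g := by
  rintro _ ⟨w, hw, rfl⟩
  exact ⟨nw w, List.mem_map.2 ⟨w, hw, rfl⟩, (φ_wd w).symm⟩

theorem wsK_S : ∀ w ∈ wsK, ∃ g ∈ S, wperm w = φ g := by
  intro w hw
  obtain ⟨v, hv, rfl⟩ := List.mem_map.1 hw
  exact ⟨wd v, ⟨v, hv, rfl⟩, (φ_wd v).symm⟩

/-- an interval of points -/
noncomputable def iv (a b : ℕ) : ℕ := Nat.sub (Nat.pow 2 b) (Nat.pow 2 a)

noncomputable def U0 : ℕ := iv 0 1
noncomputable def U1 : ℕ := Nat.shiftLeft (iv 0 1) 65536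
noncomputable def U2 : ℕ := iv 1 1576
noncomputable def U3 : ℕ := Nat.shiftLeft (iv 1 1576) 65536
noncomputable def U4 : ℕ := iv 1576 23976
noncomputable def U5 : ℕ := Nat.shiftLeft (iv 1576 23976) 65536
noncomputable def U6 : ℕ := Nat.lor (iv 23976 61776) (Nat.shiftLeft (iv 23976 61776) 65536)

/-- all points -/
noncomputable def V : ℕ := Nat.lor (iv 0 61776) (Nat.shiftLeft (iv 0 61776) 65536)

/-- the three checks of an orbit -/
noncomputable def orbB (r p U : ℕ) : Bool :=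
  and (Nat.beq (sat wsK r (Nat.pow 2 p)) U) (and (closedB wsK U) (tb U p))

theorem orb_of {r p U : ℕ} (h : orbB r p U = true) (q : ℕ) :
    U.testBit q = true ↔ ∃ g ∈ K, φ g p = q := by
  unfold orbB at h
  rw [Bool.and_eq_true, Bool.and_eq_true] at h
  have h1 := orbit_closure_eq φ S wsK_ok S_wsK wsK_S h.1 h.2.1 h.2.2
  have h2 := Set.ext_iff.1 h1 q
  rw [Set.mem_ofPred_eq, Set.mem_ofPred_eq] at h2
  exact h2.symm

end Cfsg.Agent.H714.Fi22.Stab
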